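import Cfsg.Prelude.Def_BaumannBlocks

/-!
# The Chermak-Delgado measure

`ncard_mul_inf` : `|QR| |Q ∩ R| = |Q| |R|`;
`measure_mul_le` : `m(Q) m(R) ≤ m(⟨Q, R⟩) m(Q ∩ R)` where `m(Q) = |Q| |C(Q)|`;
`main` : the Chermak-Delgado theorem for the members of largest measure of a finite group.
-/

set_option autoImplicit false
open scoped Pointwise
open Subgroup

namespace Cfsg.Agent.H263.ChermakDelgado

variable {P : Type*} [Group P]

/-- `|QR| |Q ∩ R| = |Q| |R|`. -/
theorem ncard_mul_inf (Q R : Subgroup P) :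
    ((Q : Set P) * (R : Set P)).ncard * Nat.card ↥(Q ⊓ R) = Nat.card Q * Nat.card R := by
  have h1 := card_mul_eq_card_subgroup_mul_card_quotient R (Q : Set P)
  rw [Nat.card_coe_set_eq] at h1
  have h2 : Nat.card ((fun x : P => (x : P ⧸ R)) '' (Q : Set P)) = (R.subgroupOf Q).index := by
    have h3 : ((fun x : P => (x : P ⧸ R)) '' (Q : Set P)) =
        MulAction.orbit ↥Q ((1 : P) : P ⧸ R) := by
      ext y
      constructor
      · rintro ⟨q, hq, rfl⟩
        refine ⟨⟨q, hq⟩, ?_⟩
        change ((q * 1 : P) : P ⧸ R) = (q : P ⧸ R)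
        rw [mul_one]
      · rintro ⟨⟨q, hq⟩, rfl⟩
        refine ⟨q, hq, ?_⟩
        change (q : P ⧸ R) = ((q * 1 : P) : P ⧸ R)
        rw [mul_one]
    have h4 : MulAction.stabilizer ↥Q ((1 : P) : P ⧸ R) = R.subgroupOf Q := by
      ext ⟨q, hq⟩
      rw [MulAction.mem_stabilizer_iff, mem_subgroupOf]
      change ((q * 1 : P) : P ⧸ R) = ((1 : P) : P ⧸ R) ↔ q ∈ R
      rw [mul_one, eq_comm, QuotientGroup.eq]
      simp
    rw [h3, Nat.card_coe_set_eq, ← MulAction.index_stabilizer, h4]
  rw [h1, h2]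
  have h5 : Nat.card ↥(Q ⊓ R) * (R.subgroupOf Q).index = Nat.card Q := by
    rw [← Subgroup.card_mul_index (R.subgroupOf Q)]
    congr 1
    rw [inf_comm]
    exact (Nat.card_congr (subgroupOfEquivOfLe (inf_le_right : R ⊓ Q ≤ Q)).toEquiv).symm.trans
      (by rw [inf_subgroupOf_right])
  rw [← h5]; ring

theorem mul_subset_sup (Q R : Subgroup P) : (Q : Set P) * (R : Set P) ⊆ ((Q ⊔ R : Subgroup P) : Set P) := by
  rintro _ ⟨q, hq, r, hr, rfl⟩
  exact mul_mem (mem_sup_left hq) (mem_sup_right hr)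

variable [Finite P]

theorem ncard_mul_le_sup (Q R : Subgroup P) :
    ((Q : Set P) * (R : Set P)).ncard ≤ Nat.card ↥(Q ⊔ R) := by
  rw [← SetLike.coe_sort_coe, Nat.card_coe_set_eq]
  exact Set.ncard_le_ncard (mul_subset_sup Q R) (Set.toFinite _)

theorem mul_eq_sup_of_le {Q R : Subgroup P}
    (h : Nat.card ↥(Q ⊔ R) ≤ ((Q : Set P) * (R : Set P)).ncard) :
    ((Q ⊔ R : Subgroup P) : Set P) = (Q : Set P) * (R : Set P) := by
  rw [← SetLike.coe_sort_coe, Nat.card_coe_set_eq] at h
  exact (Set.eq_of_subset_of_ncard_le (mul_subset_sup Q R) h (Set.toFinite _)).symm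

/-- `|Q| |R| ≤ |⟨Q, R⟩| |Q ∩ R|`. -/
theorem card_mul_card_le (Q R : Subgroup P) :
    Nat.card Q * Nat.card R ≤ Nat.card ↥(Q ⊔ R) * Nat.card ↥(Q ⊓ R) := by
  rw [← ncard_mul_inf]
  exact Nat.mul_le_mul_right _ (ncard_mul_le_sup Q R)

/-- Equality in `card_mul_card_le` means that `QR` is a subgroup. -/
theorem mul_eq_sup_of_card {Q R : Subgroup P}
    (h : Nat.card ↥(Q ⊔ R) * Nat.card ↥(Q ⊓ R) ≤ Nat.card Q * Nat.card R) :
    ((Q ⊔ R : Subgroup P) : Set P) = (Q : Set P) * (R : Set P) := by
  apply mul_eq_sup_of_le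
  rw [← ncard_mul_inf Q R] at h
  exact Nat.le_of_mul_le_mul_right h Nat.card_pos

omit [Finite P] in
theorem centralizer_sup (Q R : Subgroup P) :
    centralizer ((Q ⊔ R : Subgroup P) : Set P) =
      centralizer (Q : Set P) ⊓ centralizer (R : Set P) := by
  apply le_antisymm
  · exact le_inf (centralizer_le (le_sup_left : Q ≤ Q ⊔ R))
      (centralizer_le (le_sup_right : R ≤ Q ⊔ R))
  · rw [← le_centralizer_iff]
    exact sup_le (le_centralizer_iff.1 inf_le_left) (le_centralizer_iff.1 inf_le_right)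

omit [Finite P] in
theorem sup_centralizer_le (Q R : Subgroup P) :
    centralizer (Q : Set P) ⊔ centralizer (R : Set P) ≤
      centralizer ((Q ⊓ R : Subgroup P) : Set P) :=
  sup_le (centralizer_le (inf_le_left : Q ⊓ R ≤ Q)) (centralizer_le (inf_le_right : Q ⊓ R ≤ R))

/-- The Chermak-Delgado measure `m(Q) = |Q| |C(Q)|`. -/
noncomputable def measure (Q : Subgroup P) : ℕ :=
  Nat.card Q * Nat.card ↥(centralizer (Q : Set P))

theorem measure_pos (Q : Subgroup P) : 0 < measure Q :=
  Nat.mul_pos Nat.card_pos Nat.card_pos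

theorem measure_le_max (Q : Subgroup P) : measure Q ≤ maxCentralizerProduct P := by
  unfold maxCentralizerProduct
  refine le_csSup ⟨Nat.card P * Nat.card P, ?_⟩ ⟨Q, rfl⟩
  rintro k ⟨R, rfl⟩
  exact Nat.mul_le_mul (card_le_card_group R) (card_le_card_group _)

theorem large_iff (Q : Subgroup P) : IsCentralizerLarge Q ↔ ∀ R : Subgroup P, measure R ≤ measure Q := by
  constructor
  · intro h R
    have h' : measure Q = maxCentralizerProduct P := h
    rw [h']; exact measure_le_max R
  · intro h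
    apply le_antisymm (measure_le_max Q)
    unfold maxCentralizerProduct
    refine csSup_le ⟨measure Q, ⟨Q, rfl⟩⟩ ?_
    rintro k ⟨R, rfl⟩
    exact h R

/-- Members of largest measure exist. -/
theorem exists_large (P : Type*) [Group P] [Finite P] : ∃ Q : Subgroup P, IsCentralizerLarge Q := by
  obtain ⟨Q, hQ⟩ := Finite.exists_max (fun Q : Subgroup P => measure Q)
  exact ⟨Q, (large_iff Q).2 hQ⟩

/-- `m(Q) m(R) ≤ m(⟨Q, R⟩) m(Q ∩ R)`. -/
theorem measure_mul_le (Q R : Subgroup P) :
    measure Q * measure R ≤ measure (Q ⊔ R) * measure (Q ⊓ R) := by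
  have h1 := card_mul_card_le Q R
  have h2 := card_mul_card_le (centralizer (Q : Set P)) (centralizer (R : Set P))
  rw [← centralizer_sup] at h2
  have h3 : Nat.card ↥(centralizer (Q : Set P) ⊔ centralizer (R : Set P)) ≤
      Nat.card ↥(centralizer ((Q ⊓ R : Subgroup P) : Set P)) :=
    card_le_of_le (sup_centralizer_le Q R)
  unfold measure
  calc _ = (Nat.card Q * Nat.card R) *
        (Nat.card ↥(centralizer (Q : Set P)) * Nat.card ↥(centralizer (R : Set P))) := by ring
    _ ≤ (Nat.card ↥(Q ⊔ R) * Nat.card ↥(Q ⊓ R)) *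
        (Nat.card ↥(centralizer ((Q ⊓ R : Subgroup P) : Set P)) *
          Nat.card ↥(centralizer ((Q ⊔ R : Subgroup P) : Set P))) :=
        Nat.mul_le_mul h1 (h2.trans (Nat.mul_le_mul_right _ h3))
    _ = _ := by ring

/-- **Chermak-Delgado**: joins, products, intersections of members of largest measure. -/
theorem main {Q R : Subgroup P} (hQ : IsCentralizerLarge Q) (hR : IsCentralizerLarge R) :
    ((Q ⊔ R : Subgroup P) : Set P) = (Q : Set P) * (R : Set P) ∧
      IsCentralizerLarge (Q ⊔ R) ∧ IsCentralizerLarge (Q ⊓ R) ∧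
      ((centralizer (Q : Set P) ⊔ centralizer (R : Set P) : Subgroup P) : Set P) =
        (centralizer (Q : Set P) : Set P) * (centralizer (R : Set P) : Set P) ∧
      centralizer ((Q ⊓ R : Subgroup P) : Set P) =
        centralizer (Q : Set P) ⊔ centralizer (R : Set P) := by
  have hM := measure_mul_le Q R
  have e1 : measure Q = maxCentralizerProduct P := hQ
  have e2 : measure R = maxCentralizerProduct P := hR
  have l1 := measure_le_max (Q ⊔ R)
  have l2 := measure_le_max (Q ⊓ R)
  have hpos : 0 < maxCentralizerProduct P := e1 ▸ measure_pos Q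
  rw [e1, e2] at hM
  have e3 : measure (Q ⊔ R) = maxCentralizerProduct P := by
    apply le_antisymm l1
    by_contra hlt
    push Not at hlt
    have := Nat.mul_lt_mul_of_lt_of_le hlt l2 hpos
    omega
  have e4 : measure (Q ⊓ R) = maxCentralizerProduct P := by
    apply le_antisymm l2
    by_contra hlt
    push Not at hlt
    have := Nat.mul_lt_mul_of_le_of_lt l1 hlt hpos
    omega
  -- equalities
  have h1 := card_mul_card_le Q R
  have h2 := card_mul_card_le (centralizer (Q : Set P)) (centralizer (R : Set P))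
  rw [← centralizer_sup] at h2
  have h3 : Nat.card ↥(centralizer (Q : Set P) ⊔ centralizer (R : Set P)) ≤
      Nat.card ↥(centralizer ((Q ⊓ R : Subgroup P) : Set P)) :=
    card_le_of_le (sup_centralizer_le Q R)
  set a := Nat.card Q
  set b := Nat.card R
  set c := Nat.card ↥(centralizer (Q : Set P))
  set d := Nat.card ↥(centralizer (R : Set P))
  set s := Nat.card ↥(Q ⊔ R)
  set i := Nat.card ↥(Q ⊓ R)
  set cs := Nat.card ↥(centralizer ((Q ⊔ R : Subgroup P) : Set P))
  set ci := Nat.card ↥(centralizer ((Q ⊓ R : Subgroup P) : Set P))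
  set u := Nat.card ↥(centralizer (Q : Set P) ⊔ centralizer (R : Set P))
  have f1 : a * c = maxCentralizerProduct P := e1
  have f2 : b * d = maxCentralizerProduct P := e2
  have f3 : s * cs = maxCentralizerProduct P := e3
  have f4 : i * ci = maxCentralizerProduct P := e4
  have ha : 0 < a := Nat.card_pos
  have hb : 0 < b := Nat.card_pos
  have hc : 0 < c := Nat.card_pos
  have hd : 0 < d := Nat.card_pos
  have hs : 0 < s := Nat.card_pos
  have hi : 0 < i := Nat.card_pos
  have hcs : 0 < cs := Nat.card_pos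
  have hci : 0 < ci := Nat.card_pos
  have key : (a * b) * (c * d) = (s * i) * (ci * cs) := by
    calc _ = (a * c) * (b * d) := by ring
      _ = (s * cs) * (i * ci) := by rw [f1, f2, f3, f4]
      _ = _ := by ring
  have h4 : c * d ≤ ci * cs := h2.trans (Nat.mul_le_mul_right _ h3)
  have g1 : s * i ≤ a * b := by
    by_contra hlt
    push Not at hlt
    have := Nat.mul_lt_mul_of_lt_of_le hlt h4 (Nat.mul_pos hci hcs)
    omega
  have g2 : ci * cs ≤ c * d := by
    by_contra hlt
    push Not at hlt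
    have := Nat.mul_lt_mul_of_le_of_lt h1 hlt (Nat.mul_pos hs hi)
    omega
  have g3 : ci ≤ u := Nat.le_of_mul_le_mul_right (g2.trans h2) hcs
  refine ⟨mul_eq_sup_of_card g1, e3, e4, ?_, ?_⟩
  · apply mul_eq_sup_of_card
    rw [← centralizer_sup]
    exact (Nat.mul_le_mul_right _ h3).trans g2
  · symm
    exact eq_of_le_of_card_ge (sup_centralizer_le Q R) g3

theorem large_centralizer {Q : Subgroup P} (hQ : IsCentralizerLarge Q) :
    IsCentralizerLarge (centralizer (Q : Set P)) ∧
      Q = centralizer ((centralizer (Q : Set P) : Subgroup P) : Set P) := by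
  have e1 : measure Q = maxCentralizerProduct P := hQ
  have l1 := measure_le_max (centralizer (Q : Set P))
  have hle : Q ≤ centralizer ((centralizer (Q : Set P) : Subgroup P) : Set P) :=
    le_centralizer_iff.1 le_rfl
  have h1 : Nat.card Q ≤ Nat.card ↥(centralizer ((centralizer (Q : Set P) : Subgroup P) : Set P)) :=
    card_le_of_le hle
  have h2 : measure Q ≤ measure (centralizer (Q : Set P)) := by
    unfold measure
    rw [mul_comm]
    exact Nat.mul_le_mul_left _ h1
  have e2 : measure (centralizer (Q : Set P)) = maxCentralizerProduct P :=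
    le_antisymm l1 (e1 ▸ h2)
  refine ⟨e2, eq_of_le_of_card_ge hle ?_⟩
  have h3 : measure (centralizer (Q : Set P)) ≤ measure Q := by rw [e1, e2]
  unfold measure at h3
  rw [mul_comm (Nat.card ↥Q)] at h3
  exact Nat.le_of_mul_le_mul_left h3 Nat.card_pos

end Cfsg.Agent.H263.ChermakDelgado
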